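import Groth.Agent.PnHodgeCI.Main
import Groth.Agent.PicAux.Powers
import Groth.Agent.LefVanish.NegVanish
import Groth.Agent.Duality.DepthVanish
import Groth.Agent.Duality.SmoothDual

/-!
# Hodge numbers of smooth divisors with negative enough ideal
-/

set_option autoImplicit false
set_option linter.style.haveILetI false
set_option backward.isDefEq.respectTransparency.types false

universe u

open CategoryTheory CategoryTheory.Limits AlgebraicGeometry TopologicalSpace
open Groth.PicAux Groth.LocFree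

namespace Groth.HodgeDivisor

variable {k : Type u} [Field k] {X Y : Scheme.{u}} (ι : Y ⟶ X) [IsClosedImmersion ι]

/-- Cohomology of a direct image along a closed immersion. -/
theorem nonempty_equiv_push [hX : X.Over (Spec (CommRingCat.of k))] [hY : Y.Over (Spec (CommRingCat.of k))]
    (hι : Y ↘ Spec (CommRingCat.of k) = ι ≫ X ↘ Spec (CommRingCat.of k)) (G : Y.Modules) (q : ℕ) :
    Nonempty (Coh.HH X ((Scheme.Modules.pushforward ι).obj G) q ≃ₗ[k] Coh.HH Y G q) := by
  obtain ⟨e⟩ := Groth.CohC3.nonempty_linearEquiv_push_closed ι (X ↘ Spec (CommRingCat.of k)) q G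
  obtain ⟨t⟩ := hX
  obtain ⟨s⟩ := hY
  change s = ι ≫ t at hι
  subst hι
  exact ⟨e⟩

variable [X.Over (Spec (CommRingCat.of k))] [Y.Over (Spec (CommRingCat.of k))]

/-- `Λ^p A ⊗ ι^*(M^e)`. -/
noncomputable abbrev tw (A : Y.Modules) (M : X.Modules) (p e : ℕ) : Y.Modules :=
  (DCoh.tensorRightMod ((Scheme.Modules.pullback ι).obj (CohB1.tensorPow M e))).obj (extPow p A)

/-- `Λ^p A ⊗ M^e`. -/
noncomputable abbrev twX (A : X.Modules) (M : X.Modules) (p e : ℕ) : X.Modules :=
  CohB1.tensorMod (extPow p A) (CohB1.tensorPow M e)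

variable (hι : Y ↘ Spec (CommRingCat.of k) = ι ≫ X ↘ Spec (CommRingCat.of k))
  {M : X.Modules} (hM : PicF.IsInvertible M) (eI : ClSub.idealMod ι.ker ≅ M)
  {A : X.Modules} (hA : FlatMod.IsFinLocFree A)

include hι hM eI hA in
/-- Restriction to a divisor: if twists of `Λ^p A` by positive powers of `M` have no cohomology in
degree `q`, `q + 1`, the restricted twists have none in degree `q`. -/
theorem cut (p e q : ℕ) :
    ((Subsingleton (Coh.HH X (twX A M p (e + 1)) (q + 1)) → Subsingleton (Coh.HH X (twX A M p e) q) →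
      Subsingleton (Coh.HH Y (tw ι ((Scheme.Modules.pullback ι).obj A) M p e) q)) ∧
    (Subsingleton (Coh.HH X (twX A M p (e + 1)) q) → Subsingleton (Coh.HH X (twX A M p (e + 1)) (q + 1)) →
      Nonempty (Coh.HH X (twX A M p e) q ≃ₗ[k]
        Coh.HH Y (tw ι ((Scheme.Modules.pullback ι).obj A) M p e) q))) := by
  haveI := Groth.KTheory.LocFree.isQCoh hA
  have hP : FlatMod.IsFinLocFree (twX A M p e) :=
    isFinLocFree_tensorMod (isFinLocFree_extPow hA p)
      (isFinLocFree_of_rank (isInvertible_iff_ofRank_one.1 (isInvertible_tensorPow hM e)))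
  obtain ⟨S, hS, ⟨e1⟩, ⟨e2⟩, ⟨e3⟩⟩ := PnHyper.exists_subschemeSeq ι.ker hP
  obtain ⟨b, -⟩ := exists_braiding M (twX A M p e)
  obtain ⟨al, -⟩ := exists_associator (extPow p A) (CohB1.tensorPow M e) M
  let f1 : S.X₁ ≅ twX A M p (e + 1) := e1 ≪≫ PicGrp.tensorModIso eI (Iso.refl _) ≪≫ b ≪≫ al
  obtain ⟨ep, -⟩ := exists_pullback_tensorMod ι (extPow p A) (CohB1.tensorPow M e)
  obtain ⟨ea⟩ := nonempty_iso_extPow (isExtPow_pullback ι (isExtPow_extPow p A))
  let f3 : (Scheme.Modules.pullback ι).obj (twX A M p e) ≅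
      tw ι ((Scheme.Modules.pullback ι).obj A) M p e :=
    ep ≪≫ PicGrp.tensorModIso ea.symm (Iso.refl _)
  obtain ⟨d⟩ := nonempty_equiv_push ι hι (tw ι ((Scheme.Modules.pullback ι).obj A) M p e) q
  let g3 : S.X₃ ≅ (Scheme.Modules.pushforward ι).obj (tw ι ((Scheme.Modules.pullback ι).obj A) M p e) :=
    e3 ≪≫ (PnCI.nonempty_rest_congr ι.ker.subschemeι ι (Scheme.IdealSheafData.ker_subschemeι _)
      (twX A M p e)).some ≪≫ (Scheme.Modules.pushforward ι).mapIso f3
  refine ⟨fun h1 h0 => ?_, fun h0 h1 => ?_⟩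
  · exact d.symm.toEquiv.subsingleton_congr.2 (PnCI.subsingleton_congr g3.symm q
      (PnHodgeCI.subsingleton_right k hS q (PnCI.subsingleton_congr e2 q h0)
        (PnCI.subsingleton_congr f1 (q + 1) h1)))
  · obtain ⟨u⟩ := PnHodgeCI.nonempty_equiv_right k hS q (PnCI.subsingleton_congr f1 q h0)
      (PnCI.subsingleton_congr f1 (q + 1) h1)
    exact ⟨(((EulerDeg.hEquiv k e2.symm q).trans u).trans (EulerDeg.hEquiv k g3 q)).trans d⟩

include eI in
/-- The twisted wedge sequence of the conormal sequence of a divisor. -/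
theorem exists_step (hM : PicF.IsInvertible M) {A B : Y.Modules} (hA : FlatMod.IsFinLocFree A)
    (hB : FlatMod.IsFinLocFree B) (φ : Omega.conormal ι ⟶ A) (c : A ⟶ B) (w : φ ≫ c = 0)
    (hS : (ShortComplex.mk φ c w).ShortExact) (p e : ℕ) :
    ∃ U : ShortComplex Y.Modules, U.ShortExact ∧ Nonempty (U.X₁ ≅ tw ι B M p (e + 1)) ∧
      Nonempty (U.X₂ ≅ tw ι A M (p + 1) e) ∧ Nonempty (U.X₃ ≅ tw ι B M (p + 1) e) := by
  let eC : Omega.conormal ι ≅ (Scheme.Modules.pullback ι).obj M :=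
    (Scheme.Modules.pullback ι).mapIso eI
  have h₁ : FlatMod.IsFinLocFreeOfRank 1 (ShortComplex.mk φ c w).X₁ :=
    isFinLocFreeOfRank_of_iso eC.symm (isInvertible_iff_ofRank_one.1 (isInvertible_pullback ι hM))
  obtain ⟨T, hT, ⟨f1⟩, ⟨f2⟩, ⟨f3⟩⟩ :=
    PnHodgeCI.exists_wedgeSeq (ShortComplex.mk φ c w) hS h₁ hA hB p
  let O := fun e => (Scheme.Modules.pullback ι).obj (CohB1.tensorPow M e)
  have hO : PicF.IsInvertible (O e) := isInvertible_pullback ι (isInvertible_tensorPow hM e)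
  obtain ⟨b, -⟩ := exists_braiding ((Scheme.Modules.pullback ι).obj M) (extPow p B)
  obtain ⟨al, -⟩ := exists_associator (extPow p B) ((Scheme.Modules.pullback ι).obj M) (O e)
  obtain ⟨b', -⟩ := exists_braiding ((Scheme.Modules.pullback ι).obj M) (O e)
  obtain ⟨ep, -⟩ := exists_pullback_tensorMod ι (CohB1.tensorPow M e) M
  exact ⟨T.map (DCoh.tensorRightMod (O e)), shortExact_tensorRightMod hO hT,
    ⟨(DCoh.tensorRightMod (O e)).mapIso (f1 ≪≫ PicGrp.tensorModIso eC (Iso.refl _) ≪≫ b) ≪≫ al ≪≫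
      PicGrp.tensorModIso (Iso.refl _) (b' ≪≫ ep.symm)⟩,
    ⟨(DCoh.tensorRightMod (O e)).mapIso f2⟩, ⟨(DCoh.tensorRightMod (O e)).mapIso f3⟩⟩

theorem nonempty_tw_zero {A B : Y.Modules} (hA : FlatMod.IsFinLocFree A) (hB : FlatMod.IsFinLocFree B)
    (M : X.Modules) (e : ℕ) : Nonempty (tw ι A M 0 e ≅ tw ι B M 0 e) := by
  haveI := KTheory.LocFree.isQCoh hA
  haveI := KTheory.LocFree.isQCoh hB
  obtain ⟨a⟩ := KTheory.LambdaVb.nonempty_extPow_zero A
  obtain ⟨b⟩ := KTheory.LambdaVb.nonempty_extPow_zero B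
  exact ⟨(DCoh.tensorRightMod _).mapIso (a ≪≫ b.symm)⟩

variable {B : Y.Modules} (hB : FlatMod.IsFinLocFree B)
  (φ : Omega.conormal ι ⟶ (Scheme.Modules.pullback ι).obj A)
  (c : (Scheme.Modules.pullback ι).obj A ⟶ B) (w : φ ≫ c = 0)
  (hS : (ShortComplex.mk φ c w).ShortExact) {n : ℕ}
  (hv : ∀ e, 1 ≤ e → ∀ p q : ℕ, p + q ≤ n → Subsingleton (Coh.HH X (twX A M p e) q))

include hι hM eI hA hB hS hv in
theorem vanish_quot : ∀ p q e : ℕ, 1 ≤ e → p + q + 1 ≤ n →
    Subsingleton (Coh.HH Y (tw ι B M p e) q) := by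
  have hB' := isFinLocFree_pullback ι hA
  have hC : ∀ p q e : ℕ, 1 ≤ e → p + q + 1 ≤ n →
      Subsingleton (Coh.HH Y (tw ι ((Scheme.Modules.pullback ι).obj A) M p e) q) :=
    fun p q e he h => (cut ι hι hM eI hA p e q).1 (hv (e + 1) (by omega) p (q + 1) (by omega))
      (hv e he p q (by omega))
  intro p
  induction p with
  | zero =>
    intro q e he h
    obtain ⟨i⟩ := nonempty_tw_zero ι hB hB' M e
    exact PnCI.subsingleton_congr i q (hC 0 q e he h)
  | succ p ih =>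
    intro q e he h
    obtain ⟨U, hU, ⟨f1⟩, ⟨f2⟩, ⟨f3⟩⟩ := exists_step ι eI hM hB' hB φ c w hS p e
    exact PnCI.subsingleton_congr f3.symm q (PnHodgeCI.subsingleton_right k hU q
      (PnCI.subsingleton_congr f2 q (hC (p + 1) q e he h))
      (PnCI.subsingleton_congr f1 (q + 1) (ih (q + 1) (e + 1) (by omega) (by omega))))

include hι hM eI hA hB hS hv in
theorem nonempty_equiv (p q : ℕ) (h : p + q + 1 ≤ n) :
    Nonempty (Coh.HH X (extPow p A) q ≃ₗ[k] Coh.HH Y (extPow p B) q) := by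
  have hB' := isFinLocFree_pullback ι hA
  obtain ⟨d⟩ := (cut ι hι hM eI hA p 0 q).2 (hv 1 le_rfl p q (by omega))
    (hv 1 le_rfl p (q + 1) (by omega))
  haveI := isIso_pullUnit ι
  let u : twX A M p 0 ≅ extPow p A := SecTwist.unitorR _
  let v : tw ι B M p 0 ≅ extPow p B :=
    PicGrp.tensorModIso (Iso.refl _) (@asIso _ _ _ _ (pullUnit ι) (isIso_pullUnit ι)) ≪≫ SecTwist.unitorR _
  suffices hs : Nonempty (Coh.HH Y (tw ι ((Scheme.Modules.pullback ι).obj A) M p 0) q ≃ₗ[k]
      Coh.HH Y (tw ι B M p 0) q) by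
    obtain ⟨s⟩ := hs
    exact ⟨(((EulerDeg.hEquiv k u.symm q).trans d).trans s).trans (EulerDeg.hEquiv k v q)⟩
  rcases p with _ | p
  · obtain ⟨i⟩ := nonempty_tw_zero ι hB' hB M 0
    exact ⟨EulerDeg.hEquiv k i q⟩
  · obtain ⟨U, hU, ⟨f1⟩, ⟨f2⟩, ⟨f3⟩⟩ := exists_step ι eI hM hB' hB φ c w hS p 0
    have hvq := vanish_quot ι hι hM eI hA hB φ c w hS hv
    obtain ⟨t⟩ := PnHodgeCI.nonempty_equiv_right k hU q
      (PnCI.subsingleton_congr f1 q (hvq p q 1 le_rfl (by omega)))
      (PnCI.subsingleton_congr f1 (q + 1) (hvq p (q + 1) 1 le_rfl (by omega)))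
    exact ⟨((EulerDeg.hEquiv k f2.symm q).trans t).trans (EulerDeg.hEquiv k f3 q)⟩

omit [IsClosedImmersion ι] [X.Over (Spec (CommRingCat.of k))] in
theorem le_depth_of_smooth {f : X ⟶ Spec (CommRingCat.of k)} {m : ℕ} [SmoothOfRelativeDimension m f]
    {E : X.Modules} (hE : FlatMod.IsFinLocFree E) (x : X) (hx : IsClosed ({x} : Set X)) :
    (m : ℕ∞) ≤ LocCoh.depth (X.presheaf.stalk x) (E.presheaf.stalk x) := by
  haveI : Smooth f := SmoothOfRelativeDimension.smooth m f
  haveI : IsRegularLocalRing (X.presheaf.stalk x) := by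
    let _ : Field ((Spec (CommRingCat.of k)).presheaf.stalk (f x)) :=
      (Variety2.isField_stalk (Subsingleton.elim (α := PrimeSpectrum k) _ _)).toField
    have : IsRegularLocalRing ((Spec (CommRingCat.of k)).presheaf.stalk (f x)) := inferInstance
    exact Agf.RegularPoints.isRegularLocalRing_stalk_of_smooth f x
  refine Duality.DepthVanish.le_depth_stalk hE x ?_
  have h := Flatmor4.height_add_dim_stalk_of_equidim f
    (Duality.SmoothDual.height_eq f m) x
  rw [Order.height_eq_zero.2 fun y hy => le_of_eq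
    ((Scheme.le_iff_specializes.1 hy).mem_closed hx rfl).symm] at h
  simpa using h.ge

end Groth.HodgeDivisor

namespace Groth.HodgeDivisor

section Divisor

variable {k : Type u} [Field k] {X : Scheme.{u}} [X.Over (Spec (CommRingCat.of k))] {n : ℕ}
  [SmoothOfRelativeDimension (n + 1) (X ↘ Spec (CommRingCat.of k))]
  [QuasiSeparated (X ↘ Spec (CommRingCat.of k))] {M : X.Modules} (hM : PicF.IsInvertible M)
  (I : X.IdealSheafData) (hI : Nonempty (ClSub.idealMod I ≅ M))
  [I.subscheme.Over (Spec (CommRingCat.of k))]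
  (hover : I.subscheme ↘ Spec (CommRingCat.of k) = I.subschemeι ≫ X ↘ Spec (CommRingCat.of k))
  [SmoothOfRelativeDimension n (I.subscheme ↘ Spec (CommRingCat.of k))]
  (hv : ∀ e, 1 ≤ e → ∀ p q : ℕ, p + q ≤ n →
    Subsingleton (Coh.HH X (twX (Omega.sheaf (X ↘ Spec (CommRingCat.of k))) M p e) q))

include hM hI hover hv in
/-- Hodge numbers of a smooth divisor below the middle. -/
theorem finrank_eq (p q : ℕ) (hpq : p + q + 1 ≤ n)
    (F : I.subscheme.Modules) (hF : ExtPow.IsExtPow p (Omega.sheaf (I.subscheme ↘ Spec (CommRingCat.of k))) F)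
    (E : X.Modules) (hE : ExtPow.IsExtPow p (Omega.sheaf (X ↘ Spec (CommRingCat.of k))) E) :
    Module.finrank k (Coh.HH I.subscheme F q) = Module.finrank k (Coh.HH X E q) := by
  let f := X ↘ Spec (CommRingCat.of k)
  let g := I.subscheme ↘ Spec (CommRingCat.of k)
  haveI : Smooth f := SmoothOfRelativeDimension.smooth (n + 1) f
  haveI : Smooth g := SmoothOfRelativeDimension.smooth n g
  haveI : QuasiSeparated g := by
    have e : g = I.subschemeι ≫ f := hover
    rw [e]; infer_instance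
  have hA : FlatMod.IsFinLocFree (Omega.sheaf f) :=
    isFinLocFree_of_rank (OmegaSheaf.isFinLocFreeOfRank_sheaf f (n + 1))
  have hB : FlatMod.IsFinLocFree (Omega.sheaf g) :=
    isFinLocFree_of_rank (OmegaSheaf.isFinLocFreeOfRank_sheaf g n)
  haveI := KTheory.LocFree.isQCoh hA
  haveI := KTheory.LocFree.isQCoh hB
  obtain ⟨φ, c, w, hS⟩ := Duality.FundLocal.exists_conormal_ses f g I.subschemeι hover.symm
  let eI : ClSub.idealMod I.subschemeι.ker ≅ M :=
    eqToIso (congrArg ClSub.idealMod (Scheme.IdealSheafData.ker_subschemeι I)) ≪≫ hI.some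
  obtain ⟨d⟩ := nonempty_equiv I.subschemeι hover hM eI hA hB φ c w hS hv p q hpq
  obtain ⟨a⟩ := nonempty_iso_extPow hE
  obtain ⟨b⟩ := nonempty_iso_extPow hF
  exact ((((EulerDeg.hEquiv k a.symm q).trans d).trans (EulerDeg.hEquiv k b q)).finrank_eq).symm

end Divisor

/-- The powers of an inverse of `L^d` are inverse to the powers of `L`. -/
theorem isInverseOf_pow {X : Scheme.{u}} {L M : X.Modules} {d : ℕ}
    (hM : ClSub.IsInverseOf M (CohB1.tensorPow L d)) (e : ℕ) :
    ClSub.IsInverseOf (CohB1.tensorPow M e) (CohB1.tensorPow L (d * e)) := by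
  obtain ⟨h⟩ := isInverseOf_tensorPow hM e
  exact ⟨PicGrp.tensorModIso (Iso.refl _) (tensorPow_mul L d e).some ≪≫ h⟩

end Groth.HodgeDivisor
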